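import Cfsg.Agent.Lib.CosetEnum.Defs

/-! Generated table data. -/

set_option autoImplicit false
set_option maxRecDepth 20000

namespace Cfsg.Lib.CosetEnum.HeKill

/-- Table data. -/
def tabZ_0_0 : Tab :=
  (.leaf 0xe40000000000000000e30000000000000000e10000000000000000e20000000000000000e60000000000000000e70000000000000000e5)

/-- Table data. -/
def tabZ_0 : Tab :=
  tabZ_0_0

end Cfsg.Lib.CosetEnum.HeKill
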